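import Cfsg.Agent.H419.EP.Targets_m3
import Cfsg.Agent.H16.PSp4.Bridge
import Cfsg.Agent.ClassicalGeometry.SympInvolutions
import Cfsg.Agent.Prune
set_option linter.all false
prune_inst 0x7f00000000000000000000000000000000000000000000000000000000000000000000000000000000000000000000000000000000000000000000000000000000000000000000000000000000000000003fffffffffffffffffffffffffffbeffbdffffffff
open scoped Cfsg.Agent.FastGrp

/-!
# S3499, VIII-b: the model of `PSp` (helper729)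
-/

set_option autoImplicit false

namespace Cfsg.Agent.H729.EPM

open Cfsg Cfsg.Agent.H419.EP

variable {F : Type*} [Field F] {m : ℕ}

theorem prj_eq_one_iff (s : spGL m F) :
    Cfsg.Agent.H16.PSp4.prj m F s = 1 ↔ (s : GL (Fin m ⊕ Fin m) F) ∈ Cfsg.Geo.scalars (Fin m ⊕ Fin m) F := by
  have h0 : Cfsg.Agent.H16.PSp4.prj m F s = 1 ↔
      Cfsg.Agent.H16.PSp4.toSymp m F s ∈ Subgroup.center (Matrix.symplecticGroup (Fin m) F) := by
    change (QuotientGroup.mk' (Subgroup.center (Matrix.symplecticGroup (Fin m) F)))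
      (Cfsg.Agent.H16.PSp4.toSymp m F s) = 1 ↔ _
    rw [QuotientGroup.mk'_apply, QuotientGroup.eq_one_iff]
  have h1 : ((Cfsg.Agent.H16.PSp4.toSymp m F s : Matrix.symplecticGroup (Fin m) F) :
      Matrix (Fin m ⊕ Fin m) (Fin m ⊕ Fin m) F) = ((s : GL (Fin m ⊕ Fin m) F) : Matrix (Fin m ⊕ Fin m) (Fin m ⊕ Fin m) F) :=
    rfl
  rw [h0, Cfsg.Geo.mem_scalars_iff]
  constructor
  · intro h
    rcases Cfsg.Agent.ClassicalGeometry.SympInvolutions.center_eq h with h2 | h2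
    · rw [h1] at h2
      exact ⟨1, by rw [h2]; simp⟩
    · rw [h1] at h2
      exact ⟨-1, by rw [h2]; simp⟩
  · rintro ⟨c, hc⟩
    rw [Subgroup.mem_center_iff]
    intro g
    apply Subtype.ext
    change (g : Matrix (Fin m ⊕ Fin m) (Fin m ⊕ Fin m) F) *
      ((s : GL (Fin m ⊕ Fin m) F) : Matrix (Fin m ⊕ Fin m) (Fin m ⊕ Fin m) F) =
      ((s : GL (Fin m ⊕ Fin m) F) : Matrix (Fin m ⊕ Fin m) (Fin m ⊕ Fin m) F) *
        (g : Matrix (Fin m ⊕ Fin m) (Fin m ⊕ Fin m) F)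
    rw [hc, Matrix.mul_smul, Matrix.smul_mul, mul_one, one_mul]

/-- the model of `PSp` -/
noncomputable def modelPSp (m : ℕ) (F : Type*) [Field F] : Model (Cfsg.PSp m F) (Cfsg.spGL m F) where
  π := Cfsg.Agent.H16.PSp4.prj m F
  surj := Cfsg.Agent.H16.PSp4.prj_surj
  ker := prj_eq_one_iff

/-- **VIII-b** -/
theorem nonempty_model_psp {F : Type*} [Field F] [Finite F] {m : ℕ} (_hm : 2 ≤ m) :
    Nonempty (Model (Cfsg.PSp m F) (Cfsg.spGL m F)) := ⟨modelPSp m F⟩

end Cfsg.Agent.H729.EPM
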